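import Groth.Agent.Lib.HB26.Burch
import Groth.Agent.Lib.CMFree.FiniteFlat

/-!
# Spreading out a Hilbert–Burch resolution from a local ring to a basic open
-/

noncomputable section

universe u v w

namespace GrothLib.HB26

open Function

variable {R : Type u} [CommRing R] (M : Submonoid R) {S : Type v} [CommRing S] [Algebra R S]
  [IsLocalization M S]

theorem exists_smul_eq_zero {n : ℕ} (x : Fin n → R) (h : ∀ i, algebraMap R S (x i) = 0) :
    ∃ s ∈ M, ∀ i, s * x i = 0 := by
  classical
  choose t ht using fun i => (IsLocalization.map_eq_zero_iff M S (x i)).1 (h i)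
  refine ⟨∏ i, (t i : R), prod_mem fun i _ => (t i).2, fun i => ?_⟩
  rw [← Finset.mul_prod_erase _ _ (Finset.mem_univ i), mul_right_comm, ht, zero_mul]

theorem exists_ker_lift {n m : ℕ} (E : Fin m → Fin n → R) (y : Fin n → S)
    (h : ∀ j, ∑ i, y i * algebraMap R S (E j i) = 0) :
    ∃ s ∈ M, ∃ x : Fin n → R, (∀ j, ∑ i, x i * E j i = 0) ∧
      ∀ i, algebraMap R S s * y i = algebraMap R S (x i) := by
  obtain ⟨b, hb⟩ := IsLocalization.exist_integer_multiples_of_finite M y
  choose x hx using hb
  obtain ⟨t, ht, ht'⟩ := exists_smul_eq_zero M (S := S) (fun j => ∑ i, x i * E j i) fun j => by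
    simp only [map_sum, map_mul, hx, Algebra.smul_def, mul_assoc, ← Finset.mul_sum, h j, mul_zero]
  refine ⟨t * b, mul_mem ht b.2, fun i => t * x i, fun j => ?_, fun i => ?_⟩
  · simp only [mul_assoc, ← Finset.mul_sum, ht' j]
  · rw [map_mul, map_mul, hx, Algebra.smul_def, mul_assoc]

theorem exists_uniform {N : Type w} [AddCommGroup N] [Module R N] (P : Submodule R N) (K : Submodule R N)
    (hK : K.FG) (h : ∀ x ∈ K, ∃ s ∈ M, s • x ∈ P) : ∃ s ∈ M, ∀ x ∈ K, s • x ∈ P := by
  classical
  obtain ⟨G, rfl⟩ := hK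
  choose s hs hsP using fun x : G => h x (Submodule.subset_span x.2)
  refine ⟨∏ x, s x, prod_mem fun x _ => hs x, fun y hy => ?_⟩
  induction hy using Submodule.span_induction with
  | mem x hx =>
    rw [← Finset.prod_erase_mul _ _ (Finset.mem_univ (⟨x, hx⟩ : G)), mul_smul]
    exact P.smul_mem _ (hsP ⟨x, hx⟩)
  | zero => rw [smul_zero]; exact P.zero_mem
  | add x y _ _ hx hy => rw [smul_add]; exact P.add_mem hx hy
  | smul a x _ hx => rw [smul_comm]; exact P.smul_mem _ hx

omit [IsLocalization M S] in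
theorem minors_smul {A : Type u} [CommRing A] {r : ℕ} (c : A) (φ : Matrix (Fin (r + 1)) (Fin r) A)
    (i : Fin (r + 1)) : minors (c • φ) i = c ^ r * minors φ i := by
  show (-1 : A) ^ (i : ℕ) * ((c • φ).submatrix i.succAbove id).det = _
  rw [show (c • φ).submatrix i.succAbove id = c • φ.submatrix i.succAbove id from rfl, Matrix.det_smul,
    Fintype.card_fin]
  exact mul_left_comm _ _ _

/-- A resolution by maximal minors at a prime spreads to a basic open neighbourhood. -/
theorem exists_spread {L : Type u} [CommRing L] [Algebra R L] [IsNoetherianRing R] (p : Ideal R)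
    [p.IsPrime] [IsLocalization.AtPrime L p] (I : Ideal R) {r : ℕ}
    (φL : Matrix (Fin (r + 1)) (Fin r) L)
    (hspan : Ideal.span (Set.range (minors φL)) = I.map (algebraMap R L))
    (hinj : Injective φL.mulVecLin)
    (hker : LinearMap.range φL.mulVecLin = LinearMap.ker (Fintype.linearCombination L (minors φL))) :
    ∃ g : R, g ∉ p ∧ ∀ (S : Type u) [CommRing S] [Algebra R S], IsLocalization.Away g S →
      ∃ φ : Matrix (Fin (r + 1)) (Fin r) S,
        Ideal.span (Set.range (minors φ)) = I.map (algebraMap R S) ∧ Injective φ.mulVecLin ∧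
        LinearMap.range φ.mulVecLin = LinearMap.ker (Fintype.linearCombination S (minors φ)) := by
  classical
  let f := algebraMap R L
  obtain ⟨b, hb⟩ := IsLocalization.exist_integer_multiples_of_finite p.primeCompl
    (fun q : Fin (r + 1) × Fin r => φL q.1 q.2)
  choose e he using hb
  let φ : Matrix (Fin (r + 1)) (Fin r) R := Matrix.of fun i j => e (i, j)
  have hu : IsUnit (f b) := IsLocalization.map_units L b
  have hφ : φ.map f = f b • φL := by
    ext i j
    show f (e (i, j)) = f b * φL i j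
    rw [← Algebra.smul_def]
    exact he (i, j)
  have hδ : ∀ i, f (minors φ i) = f b ^ r * minors φL i := fun i => by
    rw [map_minors, hφ, minors_smul]
  -- (a) the kernel of the matrix
  let K₁ : Submodule R (Fin r → R) := LinearMap.ker φ.mulVecLin
  obtain ⟨s₁, hs₁, hK₁⟩ := exists_uniform p.primeCompl ⊥ K₁ (IsNoetherian.noetherian _) fun x hx => by
    have h0 : φL.mulVecLin (fun j => f (x j)) = 0 := by
      funext i
      refine hu.mul_right_eq_zero.1 ?_
      have h1 := congrArg f (congrFun (LinearMap.mem_ker.1 hx) i)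
      rw [Pi.zero_apply, map_zero] at h1
      refine Eq.trans ?_ h1
      simp only [Matrix.mulVecLin_apply, Matrix.mulVec, dotProduct, Finset.mul_sum, map_sum, map_mul]
      refine Finset.sum_congr rfl fun j _ => ?_
      rw [← mul_assoc]
      congr 1
      exact (congrFun (congrFun hφ i) j).symm
    obtain ⟨s, hs, hs'⟩ := exists_smul_eq_zero p.primeCompl (S := L) x
      (congrFun (hinj (h0.trans (map_zero _).symm)))
    exact ⟨s, hs, (Submodule.mem_bot R).2 (funext hs')⟩
  -- (b) exactness in the middle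
  let K₂ : Submodule R (Fin (r + 1) → R) := LinearMap.ker (Fintype.linearCombination R (minors φ))
  obtain ⟨s₂, hs₂, hK₂⟩ := exists_uniform p.primeCompl (LinearMap.range φ.mulVecLin) K₂
    (IsNoetherian.noetherian _) fun x hx => by
    have h0 : (fun i => f (x i)) ∈ LinearMap.range φL.mulVecLin := by
      rw [hker, LinearMap.mem_ker, Fintype.linearCombination_apply]
      refine (hu.pow r).mul_right_eq_zero.1 ?_
      have h1 := congrArg f (LinearMap.mem_ker.1 hx)
      rw [Fintype.linearCombination_apply, map_zero, map_sum] at h1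
      refine Eq.trans ?_ h1
      rw [Finset.mul_sum]
      refine Finset.sum_congr rfl fun i _ => ?_
      rw [smul_eq_mul, smul_eq_mul, map_mul, hδ]
      ring
    obtain ⟨z, hz⟩ := h0
    obtain ⟨c, hc⟩ := IsLocalization.exist_integer_multiples_of_finite p.primeCompl z
    choose w hw using hc
    obtain ⟨t, ht, ht'⟩ := exists_smul_eq_zero p.primeCompl (S := L)
      (fun i => (c * b : R) * x i - φ.mulVec w i) fun i => by
      rw [map_sub, map_mul, map_mul, sub_eq_zero, show f (x i) = φL.mulVec z i from (congrFun hz i).symm]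
      simp only [Matrix.mulVec, dotProduct, Finset.mul_sum, map_sum, map_mul]
      refine Finset.sum_congr rfl fun j _ => ?_
      rw [hw, Algebra.smul_def, show (algebraMap R L) (φ i j) = f b * φL i j from congrFun (congrFun hφ i) j]
      ring
    refine ⟨t * (c * b), mul_mem ht (mul_mem c.2 b.2), t • w, ?_⟩
    rw [map_smul]
    funext i
    have := ht' i
    rw [mul_sub, sub_eq_zero, ← mul_assoc] at this
    exact this.symm
  -- (c) the ideal
  let D : Ideal R := Ideal.span (Set.range (minors φ))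
  have hD : D.map f = I.map f := by
    rw [Ideal.map_span, ← Set.range_comp, ← hspan]
    refine le_antisymm (Ideal.span_le.2 ?_) (Ideal.span_le.2 ?_)
    · rintro _ ⟨i, rfl⟩
      rw [SetLike.mem_coe, comp_apply, hδ]
      exact Ideal.mul_mem_left _ _ (Ideal.subset_span ⟨i, rfl⟩)
    · rintro _ ⟨i, rfl⟩
      refine (Ideal.unit_mul_mem_iff_mem _ (hu.pow r)).1 ?_
      rw [← hδ]
      exact Ideal.subset_span ⟨i, rfl⟩
  have hcmp : ∀ A B : Ideal R, A.map f = B.map f → ∃ s ∈ p.primeCompl, ∀ x ∈ A, s • x ∈ B := fun A B h =>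
    exists_uniform p.primeCompl B A (IsNoetherian.noetherian _) fun x hx => by
      obtain ⟨⟨⟨a, ha⟩, s⟩, hs⟩ :=
        (IsLocalization.mem_map_algebraMap_iff p.primeCompl L).1 (h ▸ Ideal.mem_map_of_mem f hx)
      rw [← map_mul, IsLocalization.eq_iff_exists p.primeCompl] at hs
      obtain ⟨t, ht⟩ := hs
      refine ⟨t * s, mul_mem t.2 s.2, ?_⟩
      rw [smul_eq_mul, mul_assoc, mul_comm (s : R) x, ht]
      exact Ideal.mul_mem_left _ _ ha
  obtain ⟨s₃, hs₃, hI⟩ := hcmp I D hD.symm
  obtain ⟨s₄, hs₄, hI'⟩ := hcmp D I hD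
  refine ⟨s₁ * s₂ * s₃ * s₄, mul_mem (mul_mem (mul_mem hs₁ hs₂) hs₃) hs₄, fun S _ _ hS => ?_⟩
  haveI := hS
  let h := algebraMap R S
  have hg : IsUnit (h (s₁ * s₂ * s₃ * s₄)) := IsLocalization.Away.algebraMap_isUnit _
  rw [map_mul, map_mul, map_mul] at hg
  obtain ⟨⟨⟨hu₁, hu₂⟩, hu₃⟩, hu₄⟩ :
      ((IsUnit (h s₁) ∧ IsUnit (h s₂)) ∧ IsUnit (h s₃)) ∧ IsUnit (h s₄) := by
    simpa only [IsUnit.mul_iff] using hg
  refine ⟨φ.map h, ?_, (injective_iff_map_eq_zero _).2 fun y hy => ?_, le_antisymm ?_ fun y hy => ?_⟩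
  · rw [show Ideal.span (Set.range (minors (φ.map h))) = D.map h by
      rw [Ideal.map_span, ← Set.range_comp]
      congr 2
      exact funext fun i => (map_minors h φ i).symm]
    refine le_antisymm (Ideal.map_le_iff_le_comap.2 fun a ha => ?_) (Ideal.map_le_iff_le_comap.2 fun a ha => ?_)
    · show h a ∈ I.map h
      refine (Ideal.unit_mul_mem_iff_mem _ hu₄).1 ?_
      rw [← map_mul]
      exact Ideal.mem_map_of_mem h (hI' a ha)
    · show h a ∈ D.map h
      refine (Ideal.unit_mul_mem_iff_mem _ hu₃).1 ?_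
      rw [← map_mul]
      exact Ideal.mem_map_of_mem h (hI a ha)
  · obtain ⟨s, hs, x, hx, hsx⟩ := exists_ker_lift (Submonoid.powers (s₁ * s₂ * s₃ * s₄)) φ y fun i => by
      refine Eq.trans ?_ (congrFun hy i)
      simp only [Matrix.mulVecLin_apply, Matrix.mulVec, dotProduct, Matrix.map_apply, mul_comm]
      rfl
    have hxK : x ∈ K₁ := LinearMap.mem_ker.2 (funext fun i => by
      refine Eq.trans ?_ (hx i)
      simp only [Matrix.mulVecLin_apply, Matrix.mulVec, dotProduct, mul_comm])
    have h1 := (Submodule.mem_bot R).1 (hK₁ x hxK)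
    funext j
    refine (hu₁.mul (IsLocalization.map_units S (⟨s, hs⟩ : Submonoid.powers _))).mul_right_eq_zero.1 ?_
    rw [mul_assoc, hsx, ← map_mul, show s₁ * x j = 0 from congrFun h1 j, map_zero]
  · rintro _ ⟨y, rfl⟩
    rw [LinearMap.mem_ker, Fintype.linearCombination_apply]
    have h1 := congrArg (fun v => dotProduct v y) (vecMul_minors (φ.map h))
    simp only [← Matrix.dotProduct_mulVec, zero_dotProduct] at h1
    refine Eq.trans ?_ h1
    simp only [dotProduct, smul_eq_mul, Matrix.mulVecLin_apply, mul_comm]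
  · obtain ⟨s, hs, x, hx, hsx⟩ := exists_ker_lift (Submonoid.powers (s₁ * s₂ * s₃ * s₄))
      (fun _ : Fin 1 => minors φ) y fun _ => by
      have := LinearMap.mem_ker.1 hy
      rw [Fintype.linearCombination_apply] at this
      refine Eq.trans ?_ this
      refine Finset.sum_congr rfl fun i _ => ?_
      rw [smul_eq_mul, ← map_minors]
    have hxK : x ∈ K₂ := LinearMap.mem_ker.2 (by
      rw [Fintype.linearCombination_apply]
      exact hx 0)
    obtain ⟨w, hw⟩ := hK₂ x hxK
    obtain ⟨U, hU⟩ := hu₂.mul (IsLocalization.map_units S (⟨s, hs⟩ : Submonoid.powers _))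
    refine ⟨(↑U⁻¹ : S) • (fun j => h (w j)), ?_⟩
    rw [map_smul]
    funext i
    show (↑U⁻¹ : S) * (φ.map h).mulVec (fun j => h (w j)) i = y i
    rw [show (φ.map h).mulVec (fun j => h (w j)) i = h (φ.mulVec w i) from (RingHom.map_mulVec h φ w i).symm,
      show φ.mulVec w i = s₂ * x i from congrFun hw i, map_mul, ← hsx, ← mul_assoc (h s₂), ← hU,
      ← mul_assoc, Units.inv_mul, one_mul]

end GrothLib.HB26

namespace GrothLib.HB26

open IsLocalRing RingTheory.Sequence in
theorem isCohenMacaulayLocalRing_of_ringEquiv {R S : Type u} [CommRing R] [CommRing S] (e : R ≃+* S)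
    [LocCoh.IsCohenMacaulayLocalRing R] : LocCoh.IsCohenMacaulayLocalRing S := by
  haveI := e.isLocalRing
  haveI := isNoetherianRing_of_ringEquiv R e
  refine ⟨?_⟩
  rw [Module.supportDim_self_eq_ringKrullDim]
  refine le_antisymm ?_ (GrothLib.CMFree.depth_le_ringKrullDim S)
  have h := LocCoh.IsCohenMacaulayLocalRing.supportDim_eq_depth (R := R)
  rw [Module.supportDim_self_eq_ringKrullDim, ringKrullDim_eq_of_ringEquiv e] at h
  rw [h]
  have hne : ∀ (T : Type u) [CommRing T] [IsLocalRing T], maximalIdeal T • (⊤ : Submodule T T) ≠ ⊤ :=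
    fun T _ _ => by rw [smul_eq_mul, Ideal.mul_top]; exact (maximalIdeal.isMaximal T).ne_top
  refine WithBot.coe_le_coe.2 ?_
  unfold LocCoh.depth LocCoh.idealDepth
  rw [if_neg (hne R), if_neg (hne S)]
  refine iSup₂_le fun rs hrs => ?_
  letI : RingHomInvPair (e : R →+* S) (e.symm : S →+* R) :=
    ⟨RingHom.ext fun x => e.symm_apply_apply x, RingHom.ext fun x => e.apply_symm_apply x⟩
  letI : RingHomInvPair (e.symm : S →+* R) (e : R →+* S) :=
    ⟨RingHom.ext fun x => e.apply_symm_apply x, RingHom.ext fun x => e.symm_apply_apply x⟩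
  let l : R ≃ₛₗ[(e : R →+* S)] S :=
    { e.toAddEquiv with map_smul' := fun r x => map_mul e r x }
  refine le_iSup₂_of_le (rs.map (e : R →+* S))
    ⟨(l.isWeaklyRegular_congr' rs).1 hrs.1, fun r hr => ?_⟩ (by simp)
  obtain ⟨a, ha, rfl⟩ := List.mem_map.1 hr
  exact fun hu => (mem_maximalIdeal _).1 (hrs.2 a ha) ((isUnit_map_iff e a).1 hu)

end GrothLib.HB26
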