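import Groth.Agent.Lib.DefLift26.Basic
import Groth.Agent.Lib.BlowUp.FlatSub
import Groth.Agent.Lib.Flatness.InjMod
import Mathlib

/-!
# Maximal minors, and complexes of flat modules exact modulo the maximal ideal
-/

universe u

noncomputable section

namespace GrothLib.HB26

open Function IsLocalRing

/-! ## Signed maximal minors -/

/-- The signed maximal minors. -/
abbrev minors {A : Type u} [CommRing A] {r : ℕ} (φ : Matrix (Fin (r + 1)) (Fin r) A) : Fin (r + 1) → A :=
  fun i => (-1 : A) ^ (i : ℕ) * (φ.submatrix i.succAbove id).det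

theorem vecMul_minors {A : Type u} [CommRing A] {r : ℕ} (φ : Matrix (Fin (r + 1)) (Fin r) A) :
    Matrix.vecMul (minors φ) φ = 0 := by
  funext j
  let M : Matrix (Fin (r + 1)) (Fin (r + 1)) A := Matrix.of fun i => (Fin.cons (φ i j) (φ i) : Fin (r + 1) → A)
  have h0 : M.det = 0 := Matrix.det_zero_of_column_eq (Fin.succ_ne_zero j).symm fun i => by simp [M]
  rw [Matrix.det_succ_column_zero] at h0
  show ∑ i, minors φ i * φ i j = 0
  refine Eq.trans ?_ h0
  refine Finset.sum_congr rfl fun i _ => ?_
  have : M.submatrix i.succAbove Fin.succ = φ.submatrix i.succAbove id := by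
    ext a b
    simp [M]
  rw [this]
  simp only [minors, M, Matrix.of_apply, Fin.cons_zero]
  ring

theorem map_minors {A B : Type u} [CommRing A] [CommRing B] (f : A →+* B) {r : ℕ}
    (φ : Matrix (Fin (r + 1)) (Fin r) A) (i : Fin (r + 1)) : f (minors φ i) = minors (φ.map f) i := by
  simp only [minors, map_mul, map_pow, map_neg, map_one, RingHom.map_det]
  rfl

theorem range_le_ker {A : Type u} [CommRing A] {n r : ℕ} (g : Fin n → A) (φ : Matrix (Fin n) (Fin r) A)
    (h : Matrix.vecMul g φ = 0) :
    LinearMap.range φ.mulVecLin ≤ LinearMap.ker (Fintype.linearCombination A g) := by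
  rintro _ ⟨x, rfl⟩
  rw [LinearMap.mem_ker, Fintype.linearCombination_apply]
  have : ∑ i, φ.mulVecLin x i • g i = dotProduct g (φ.mulVec x) :=
    Finset.sum_congr rfl fun i _ => mul_comm _ _
  rw [this, Matrix.dotProduct_mulVec, h, zero_dotProduct]

/-! ## Exactness modulo the maximal ideal -/

section Modules

variable {C : Type u} [CommRing C] [IsLocalRing C] [IsArtinianRing C]
variable {M N : Type u} [AddCommGroup M] [Module C M] [AddCommGroup N] [Module C N]

theorem isNilpotent_maximalIdeal : IsNilpotent (maximalIdeal C) := by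
  rw [← IsLocalRing.jacobson_eq_maximalIdeal (R := C) ⊥ bot_ne_top]
  exact IsArtinianRing.isNilpotent_jacobson_bot

theorem mem_smul_top_of_mod [Module.Flat C M] (u : N →ₗ[C] M)
    (hu : ∀ x, u x ∈ maximalIdeal C • (⊤ : Submodule C M) → x ∈ maximalIdeal C • (⊤ : Submodule C N))
    (J : Ideal C) (x : N) (hx : u x ∈ J • (⊤ : Submodule C M)) : x ∈ J • (⊤ : Submodule C N) := by
  have hinj : Injective (u.lTensor (ResidueField C)) := by
    rw [injective_iff_map_eq_zero]
    intro z hz
    obtain ⟨y, rfl⟩ := TensorProduct.mk_surjective C N (ResidueField C) residue_surjective z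
    change (1 : C ⧸ maximalIdeal C) ⊗ₜ[C] y = 0
    have hz' : (1 : C ⧸ maximalIdeal C) ⊗ₜ[C] u y = 0 := hz
    rw [GrothLib.Flatness.one_tmul_eq_zero_iff] at hz' ⊢
    exact hu y hz'
  obtain ⟨n, hn⟩ := isNilpotent_maximalIdeal (C := C)
  have key : ∀ m : ℕ, x ∈ J • (⊤ : Submodule C N) ⊔ maximalIdeal C ^ m • (⊤ : Submodule C N) := by
    intro m
    induction m with
    | zero =>
      rw [pow_zero, Ideal.one_eq_top, Submodule.top_smul]
      exact Submodule.mem_sup_right trivial
    | succ m ih =>
      obtain ⟨a, ha, b, hb, rfl⟩ := Submodule.mem_sup.mp ih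
      have hua : u a ∈ J • (⊤ : Submodule C M) := Submodule.smul_top_le_comap_smul_top J u ha
      have hub : u b ∈ J • (⊤ : Submodule C M) := by
        rw [map_add] at hx
        simpa using sub_mem hx hua
      obtain ⟨ι, _, c, y, hc, rfl⟩ := GrothLib.Flatness.exists_sum_smul_of_mem hb
      refine add_mem (Submodule.mem_sup_left ha) ?_
      rw [pow_succ]
      exact GrothLib.Flatness.sum_smul_mem_of_map_mem u hinj J c y (by simpa [map_sum] using hub) _ hc
  have h := key n
  rwa [hn, Submodule.zero_eq_bot, Submodule.bot_smul, sup_bot_eq] at h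

theorem exact_of_mod {M₂ M₁ M₀ : Type u} [AddCommGroup M₂] [Module C M₂] [AddCommGroup M₁] [Module C M₁]
    [AddCommGroup M₀] [Module C M₀] [Module.Flat C M₁] [Module.Flat C M₀]
    (u : M₂ →ₗ[C] M₁) (v : M₁ →ₗ[C] M₀) (hc : v ∘ₗ u = 0)
    (hu : ∀ x, u x ∈ maximalIdeal C • (⊤ : Submodule C M₁) → x ∈ maximalIdeal C • (⊤ : Submodule C M₂))
    (hv : ∀ y, v y ∈ maximalIdeal C • (⊤ : Submodule C M₀) →
      y ∈ LinearMap.range u ⊔ maximalIdeal C • (⊤ : Submodule C M₁)) :
    Injective u ∧ LinearMap.ker v = LinearMap.range u ∧ Module.Flat C (M₀ ⧸ LinearMap.range v) := by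
  obtain ⟨hinj, hflat, -⟩ := GrothLib.Flatness.flat_coker_of_forall_mem u fun J x => mem_smul_top_of_mod u hu J x
  let v' : (M₁ ⧸ LinearMap.range u) →ₗ[C] M₀ :=
    (LinearMap.range u).liftQ v (LinearMap.range_le_ker_iff.2 hc)
  have hv' : ∀ q, v' q ∈ maximalIdeal C • (⊤ : Submodule C M₀) →
      q ∈ maximalIdeal C • (⊤ : Submodule C (M₁ ⧸ LinearMap.range u)) := fun q hq => by
    obtain ⟨y, rfl⟩ := Submodule.Quotient.mk_surjective _ q
    obtain ⟨a, ha, b, hb, rfl⟩ := Submodule.mem_sup.1 (hv y hq)
    rw [Submodule.Quotient.mk_add, (Submodule.Quotient.mk_eq_zero _).2 ha, zero_add]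
    exact Submodule.smul_top_le_comap_smul_top _ (LinearMap.range u).mkQ hb
  obtain ⟨hinj', hflat', -⟩ := GrothLib.Flatness.flat_coker_of_forall_mem v' fun J x => mem_smul_top_of_mod v' hv' J x
  refine ⟨hinj, le_antisymm (fun y hy => ?_) (LinearMap.range_le_ker_iff.2 hc), ?_⟩
  · refine (Submodule.Quotient.mk_eq_zero _).1 (hinj' ?_)
    rw [map_zero]
    exact hy
  · have : LinearMap.range v' = LinearMap.range v := Submodule.range_liftQ _ _ _
    rwa [this] at hflat'

end Modules

/-! ## Matrices over a flat algebra -/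

section Algebra

variable {C : Type u} [CommRing C] [IsLocalRing C] [IsArtinianRing C] {A : Type u} [CommRing A] [Algebra C A]

theorem mem_smul_top_pi_iff {n : ℕ} (J : Ideal C) (x : Fin n → A) :
    x ∈ J • (⊤ : Submodule C (Fin n → A)) ↔ ∀ i, x i ∈ J.map (algebraMap C A) := by
  classical
  refine ⟨fun h i => ?_, fun h => ?_⟩
  · rw [← Submodule.restrictScalars_mem C, ← Ideal.smul_top_eq_map]
    exact Submodule.smul_top_le_comap_smul_top J (LinearMap.proj i) h
  · rw [← Finset.univ_sum_single x]
    refine sum_mem fun i _ => ?_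
    refine Submodule.smul_top_le_comap_smul_top J (LinearMap.single C (fun _ : Fin n => A) i) ?_
    rw [Ideal.smul_top_eq_map, Submodule.restrictScalars_mem]
    exact h i

local notation "𝔪A" => Ideal.map (algebraMap C A) (maximalIdeal C)

/-- A complex of free modules over a flat algebra which is exact on the special fibre. -/
theorem exact_of_fibre [Module.Flat C A] {n r : ℕ} (φ : Matrix (Fin n) (Fin r) A) (g : Fin n → A)
    (hc : Matrix.vecMul g φ = 0)
    (hinj : Injective (φ.map (Ideal.Quotient.mk 𝔪A)).mulVecLin)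
    (hker : LinearMap.ker (Fintype.linearCombination (A ⧸ 𝔪A) (Ideal.Quotient.mk 𝔪A ∘ g)) ≤
      LinearMap.range (φ.map (Ideal.Quotient.mk 𝔪A)).mulVecLin) :
    Injective φ.mulVecLin ∧ LinearMap.range φ.mulVecLin = LinearMap.ker (Fintype.linearCombination A g) ∧
      Module.Flat C (A ⧸ Ideal.span (Set.range g)) := by
  classical
  let π := Ideal.Quotient.mk 𝔪A
  haveI : ∀ l : ℕ, Module.Flat C (Fin l → A) := fun l => Module.Flat.trans C A (Fin l → A)
  let u : (Fin r → A) →ₗ[C] (Fin n → A) := φ.mulVecLin.restrictScalars C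
  let v : (Fin n → A) →ₗ[C] A := (Fintype.linearCombination A g).restrictScalars C
  have hvu : v ∘ₗ u = 0 := LinearMap.ext fun x => range_le_ker g φ hc ⟨x, rfl⟩
  have hmap : ∀ x : Fin r → A, π ∘ φ.mulVec x = (φ.map π).mulVec (π ∘ x) := fun x => funext fun i =>
    RingHom.map_mulVec π φ x i
  have hu : ∀ x, u x ∈ maximalIdeal C • (⊤ : Submodule C (Fin n → A)) →
      x ∈ maximalIdeal C • (⊤ : Submodule C (Fin r → A)) := fun x hx => by
    rw [mem_smul_top_pi_iff] at hx ⊢
    have h0 : (φ.map π).mulVecLin (π ∘ x) = 0 := by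
      rw [Matrix.mulVecLin_apply, ← hmap]
      exact funext fun i => Ideal.Quotient.eq_zero_iff_mem.2 (hx i)
    have := hinj (h0.trans (map_zero _).symm)
    exact fun i => Ideal.Quotient.eq_zero_iff_mem.1 (congrFun this i)
  have hv : ∀ y, v y ∈ maximalIdeal C • (⊤ : Submodule C A) →
      y ∈ LinearMap.range u ⊔ maximalIdeal C • (⊤ : Submodule C (Fin n → A)) := fun y hy => by
    rw [Ideal.smul_top_eq_map, Submodule.restrictScalars_mem] at hy
    have hy' : π ∘ y ∈ LinearMap.ker (Fintype.linearCombination (A ⧸ 𝔪A) (π ∘ g)) := by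
      rw [LinearMap.mem_ker, Fintype.linearCombination_apply]
      have := Ideal.Quotient.eq_zero_iff_mem.2 hy
      simpa [v, Fintype.linearCombination_apply] using this
    obtain ⟨x', hx'⟩ := hker hy'
    choose x hx using fun i => Ideal.Quotient.mk_surjective (x' i)
    refine Submodule.mem_sup.2 ⟨u x, ⟨x, rfl⟩, y - u x, ?_, add_sub_cancel _ _⟩
    rw [mem_smul_top_pi_iff]
    intro i
    rw [← Ideal.Quotient.eq_zero_iff_mem, Pi.sub_apply, map_sub, sub_eq_zero]
    show π (y i) = π (φ.mulVec x i)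
    rw [show π (φ.mulVec x i) = (φ.map π).mulVec (π ∘ x) i from congrFun (hmap x) i,
      show π ∘ x = x' from funext hx]
    exact (congrFun hx' i).symm
  obtain ⟨h1, h2, h3⟩ := exact_of_mod u v hvu hu hv
  refine ⟨h1, ?_, ?_⟩
  · ext y
    exact (SetLike.ext_iff.1 h2 y).symm
  · have hrange : LinearMap.range v = (Ideal.span (Set.range g)).restrictScalars C := by
      ext a
      rw [LinearMap.mem_range, Submodule.restrictScalars_mem]
      exact (Submodule.mem_span_range_iff_exists_fun A).symm
    rw [hrange] at h3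
    exact Module.Flat.of_linearEquiv
      (Submodule.Quotient.restrictScalarsEquiv C (Ideal.span (Set.range g))).symm

/-- Proportionality: a vector killed by the matrix is a multiple of the minors. -/
theorem exists_eq_mul {A : Type u} [CommRing A] {n r : ℕ} (φ : Matrix (Fin n) (Fin r) A) (f g : Fin n → A)
    (hf : LinearMap.range φ.mulVecLin = LinearMap.ker (Fintype.linearCombination A f))
    (hg : Matrix.vecMul g φ = 0) (a b : A) (ha : a ∈ Ideal.span (Set.range f)) (hb : b ∈ Ideal.span (Set.range f))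
    (ha0 : ∀ y, a * y = 0 → y = 0) (hab : ∀ y, b * y ∈ Ideal.span {a} → y ∈ Ideal.span {a}) :
    ∃ c : A, ∀ i, g i = c * f i := by
  classical
  obtain ⟨α, hα⟩ := (Submodule.mem_span_range_iff_exists_fun A).1 ha
  obtain ⟨β, hβ⟩ := (Submodule.mem_span_range_iff_exists_fun A).1 hb
  have hle := range_le_ker g φ hg
  rw [hf] at hle
  have key : ∀ (γ : Fin n → A) (i : Fin n), (∑ j, γ j • f j) * g i = f i * ∑ j, γ j • g j := fun γ i => by
    have hm : Pi.single i (∑ j, γ j • f j) - f i • γ ∈ LinearMap.ker (Fintype.linearCombination A f) := by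
      rw [LinearMap.mem_ker, map_sub, map_smul, Fintype.linearCombination_apply_single,
        Fintype.linearCombination_apply, smul_eq_mul, smul_eq_mul, mul_comm, sub_self]
    have h := hle hm
    rw [LinearMap.mem_ker, map_sub, map_smul, Fintype.linearCombination_apply_single,
      Fintype.linearCombination_apply, sub_eq_zero, smul_eq_mul, smul_eq_mul] at h
    exact h
  set Ga := ∑ j, α j • g j
  set Gb := ∑ j, β j • g j
  have h1 : a * Gb = b * Ga := by
    have h := Finset.sum_congr (rfl : Finset.univ = Finset.univ) fun i _ => congrArg (β i * ·) (key α i)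
    simp only [hα] at h
    have e1 : ∑ i, β i * (a * g i) = a * Gb := by
      simp only [Gb, Finset.mul_sum, smul_eq_mul]
      exact Finset.sum_congr rfl fun i _ => by ring
    have e2 : ∑ i, β i * (f i * Ga) = b * Ga := by
      rw [← hβ, Finset.sum_mul]
      exact Finset.sum_congr rfl fun i _ => by rw [smul_eq_mul]; ring
    rw [← e1, ← e2]
    exact h
  obtain ⟨c, hc⟩ := Ideal.mem_span_singleton'.1
    (hab Ga (h1 ▸ Ideal.mul_mem_right _ _ (Ideal.mem_span_singleton_self a)))
  refine ⟨c, fun i => sub_eq_zero.1 (ha0 _ ?_)⟩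
  have := key α i
  rw [hα] at this
  rw [mul_sub, this]
  show f i * Ga - _ = 0
  rw [← hc]
  ring

theorem isNilpotent_map_maximalIdeal : IsNilpotent 𝔪A := by
  obtain ⟨n, hn⟩ := isNilpotent_maximalIdeal (C := C)
  exact ⟨n, by rw [← Ideal.map_pow, hn, Ideal.zero_eq_bot, Ideal.map_bot]; rfl⟩

theorem isUnit_of_sub_one_mem {c : A} (h : c - 1 ∈ 𝔪A) : IsUnit c := by
  obtain ⟨n, hn⟩ := isNilpotent_map_maximalIdeal (C := C) (A := A)
  have : IsNilpotent (c - 1) := ⟨n, by
    have := Ideal.pow_mem_pow h n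
    rwa [hn, Ideal.zero_eq_bot, Ideal.mem_bot] at this⟩
  simpa using this.isUnit_one_add

theorem span_range_mul_unit {n : ℕ} (f g : Fin n → A) {c : A} (hc : IsUnit c) (h : ∀ i, g i = c * f i) :
    Ideal.span (Set.range g) = Ideal.span (Set.range f) := by
  refine le_antisymm (Ideal.span_le.2 ?_) (Ideal.span_le.2 ?_)
  · rintro _ ⟨i, rfl⟩
    rw [h]
    exact Ideal.mul_mem_left _ _ (Ideal.subset_span ⟨i, rfl⟩)
  · rintro _ ⟨i, rfl⟩
    show f i ∈ Ideal.span (Set.range g)
    rw [← Ideal.unit_mul_mem_iff_mem _ hc, ← h]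
    exact Ideal.subset_span ⟨i, rfl⟩

/-- The special fibre of an exact sequence of flat modules is exact. -/
theorem fibre_exact [Module.Flat C A] {n r : ℕ} (φ : Matrix (Fin n) (Fin r) A) (g : Fin n → A)
    (hinj : Injective φ.mulVecLin)
    (hker : LinearMap.range φ.mulVecLin = LinearMap.ker (Fintype.linearCombination A g))
    [Module.Flat C (A ⧸ Ideal.span (Set.range g))] :
    Injective (φ.map (Ideal.Quotient.mk 𝔪A)).mulVecLin ∧
      LinearMap.ker (Fintype.linearCombination (A ⧸ 𝔪A) (Ideal.Quotient.mk 𝔪A ∘ g)) ≤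
        LinearMap.range (φ.map (Ideal.Quotient.mk 𝔪A)).mulVecLin := by
  classical
  let π := Ideal.Quotient.mk 𝔪A
  let m := maximalIdeal C
  have hmap : ∀ x : Fin r → A, π ∘ φ.mulVec x = (φ.map π).mulVec (π ∘ x) := fun x => funext fun i =>
    RingHom.map_mulVec π φ x i
  let L : Submodule C A := (Ideal.span (Set.range g)).restrictScalars C
  have hI : ∀ z : Fin n → A, Fintype.linearCombination A g z ∈ L := fun z =>
    (Submodule.mem_span_range_iff_exists_fun A).2 ⟨z, rfl⟩
  -- lift relations of the fibre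
  have hrel : ∀ y : Fin n → A, Fintype.linearCombination A g y ∈ 𝔪A →
      y ∈ LinearMap.range φ.mulVecLin ⊔ (maximalIdeal C).map (algebraMap C A) • (⊤ : Submodule A (Fin n → A)) := by
    intro y hy
    have h := GrothLib.DefLift.inf_map_le_mul (maximalIdeal C) (Ideal.span (Set.range g)) ⟨hI y, hy⟩
    rw [← smul_eq_mul] at h
    obtain ⟨z, hz, hzy⟩ : ∃ z ∈ (maximalIdeal C).map (algebraMap C A) • (⊤ : Submodule A (Fin n → A)),
        Fintype.linearCombination A g z = Fintype.linearCombination A g y := by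
      refine Submodule.smul_induction_on h (fun a ha b hb => ?_) fun a b ⟨z, hz, e⟩ ⟨z', hz', e'⟩ =>
        ⟨z + z', add_mem hz hz', by rw [map_add, e, e']⟩
      obtain ⟨w, hw⟩ := (Submodule.mem_span_range_iff_exists_fun A).1 hb
      exact ⟨a • w, Submodule.smul_mem_smul ha trivial, by rw [map_smul, Fintype.linearCombination_apply, hw]⟩
    refine Submodule.mem_sup.2 ⟨y - z, ?_, z, hz, sub_add_cancel _ _⟩
    rw [hker, LinearMap.mem_ker, map_sub, hzy, sub_self]
  have hcomp : ∀ {l : ℕ} (z : Fin l → A), z ∈ (maximalIdeal C).map (algebraMap C A) • (⊤ : Submodule A (Fin l → A)) →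
      π ∘ z = 0 := fun z hz => funext fun i => Ideal.Quotient.eq_zero_iff_mem.2 <| by
    have := Submodule.smul_top_le_comap_smul_top _ (LinearMap.proj (R := A) (φ := fun _ => A) i) hz
    simpa using this
  refine ⟨?_, fun y' hy' => ?_⟩
  · rw [injective_iff_map_eq_zero]
    intro x' hx'
    choose x hx using fun i => Ideal.Quotient.mk_surjective (x' i)
    have hx0 : ∀ i, φ.mulVec x i ∈ 𝔪A := fun i => by
      rw [← Ideal.Quotient.eq_zero_iff_mem, show π (φ.mulVec x i) = (φ.map π).mulVec (π ∘ x) i from congrFun (hmap x) i,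
        show π ∘ x = x' from funext hx]
      exact congrFun hx' i
    have hflat : Module.Flat C ((Fin n → A) ⧸ LinearMap.range (φ.mulVecLin.restrictScalars C)) := by
      let v : (Fin n → A) →ₗ[C] L :=
        LinearMap.codRestrict L ((Fintype.linearCombination A g).restrictScalars C) hI
      have hv : Surjective v := fun a => by
        obtain ⟨z, hz⟩ := (Submodule.mem_span_range_iff_exists_fun A).1 a.2
        exact ⟨z, Subtype.ext hz⟩
      have hk : LinearMap.range (φ.mulVecLin.restrictScalars C) = LinearMap.ker v := by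
        ext z
        rw [LinearMap.mem_ker, ← Subtype.coe_inj]
        exact SetLike.ext_iff.1 hker z
      haveI : Module.Flat C (A ⧸ L) :=
        Module.Flat.of_linearEquiv (Submodule.Quotient.restrictScalarsEquiv C (Ideal.span (Set.range g)))
      haveI : Module.Flat C L := GrothLib.BlowUp.flat_of_exact_left L.subtype L.injective_subtype L.mkQ
        L.mkQ_surjective (LinearMap.exact_subtype_mkQ L)
      exact Module.Flat.of_linearEquiv
        ((Submodule.quotEquivOfEq _ _ hk).trans (LinearMap.quotKerEquivOfSurjective v hv))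
    haveI := hflat
    have hu := LinearMap.lTensor_injective_of_exact_of_flat (LinearMap.range (φ.mulVecLin.restrictScalars C)).mkQ
      (Submodule.mkQ_surjective _) (φ.mulVecLin.restrictScalars C) hinj (LinearMap.exact_map_mkQ_range _)
      (C ⧸ maximalIdeal C)
    have hx1 : x ∈ maximalIdeal C • (⊤ : Submodule C (Fin r → A)) := by
      rw [← GrothLib.Flatness.one_tmul_eq_zero_iff]
      refine hu ?_
      rw [map_zero, LinearMap.lTensor_tmul, GrothLib.Flatness.one_tmul_eq_zero_iff, mem_smul_top_pi_iff]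
      exact hx0
    rw [mem_smul_top_pi_iff] at hx1
    exact funext fun i => (hx i).symm.trans (Ideal.Quotient.eq_zero_iff_mem.2 (hx1 i))
  · choose y hy using fun i => Ideal.Quotient.mk_surjective (y' i)
    have hy0 : Fintype.linearCombination A g y ∈ 𝔪A := by
      rw [← Ideal.Quotient.eq_zero_iff_mem, Fintype.linearCombination_apply, map_sum]
      refine Eq.trans (Finset.sum_congr rfl fun i _ => ?_) ((Fintype.linearCombination_apply _ _ _).symm.trans hy')
      rw [smul_eq_mul, map_mul, hy]
      rfl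
    obtain ⟨_, ⟨x, rfl⟩, z, hz, rfl⟩ := Submodule.mem_sup.1 (hrel y hy0)
    refine ⟨π ∘ x, ?_⟩
    funext i
    rw [← hy i, Pi.add_apply, map_add, show π (z i) = 0 from congrFun (hcomp z hz) i, add_zero]
    exact (congrFun (hmap x) i).symm

end Algebra

end GrothLib.HB26
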