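import Groth.Agent.Lib.HB26.Basic
import Groth.Agent.Lib.Depth.Basic
import Groth.Agent.Lib.CMFree.Regular
import Groth.Agent.Lib.CMFree.FiniteFlat
import Groth.Agent.Lib.Serre.Smooth
import Groth.Agent.Lib.RegSeqLoc.Basic
import Groth.Agent.S14424
import Mathlib

/-!
# Regular pairs in ideals of height two; lifting determinantal presentations
-/

universe u

noncomputable section

namespace GrothLib.HB26

open Function IsLocalRing RingTheory.Sequence

theorem isCohenMacaulayRing_of_smooth (k A : Type u) [Field k] [CommRing A] [Algebra k A]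
    [Algebra.Smooth k A] : LocCoh.IsCohenMacaulayRing A := by
  haveI : IsNoetherianRing A := Algebra.FiniteType.isNoetherianRing k A
  refine { isCohenMacaulayLocalRing_localization := fun p _ => ?_ }
  haveI : IsRegularLocalRing (Localization.AtPrime p) :=
    GrothLib.Serre.isRegularLocalRing_of_isSmoothAt (k := k) p
  obtain ⟨rs, h1, h2, h3⟩ := GrothLib.CMFree.exists_weaklyRegular_of_isRegularLocalRing (Localization.AtPrime p)
  exact GrothLib.CMFree.isCohenMacaulayLocalRing_of_weaklyRegular _ rs h1 h2 h3.ge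

theorem exists_pair (A : Type u) [CommRing A] [LocCoh.IsCohenMacaulayRing A] (I : Ideal A)
    (h : ∀ p : Ideal A, p.IsPrime → I ≤ p → (2 : ℕ∞) ≤ p.height) :
    ∃ a b : A, a ∈ I ∧ b ∈ I ∧ IsWeaklyRegular A [a, b] := by
  by_cases hI : I = ⊤
  · refine ⟨1, 1, by rw [hI]; trivial, by rw [hI]; trivial, ?_⟩
    rw [GrothLib.RegSeqLoc.isWeaklyRegular_iff_mem]
    intro i hi x hx
    have : [(1 : A), 1][i] = 1 := by
      match i, hi with
      | 0, _ => rfl
      | 1, _ => rfl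
    rwa [this, one_mul] at hx
  have hne : I • (⊤ : Submodule A A) ≠ ⊤ := by
    rw [Ideal.smul_eq_mul, Ideal.mul_top]; exact hI
  have hd : (2 : ℕ∞) ≤ LocCoh.idealDepth I A := by
    rw [(Groth.Agent.S14424.result A).1 inferInstance I hI, Ideal.height_eq_inf_minimalPrimes]
    exact le_iInf₂ fun p hp => h p hp.1.1 hp.1.2
  obtain ⟨rs, hlen, hmem, hreg⟩ := (GrothLib.Depth.le_idealDepth_iff_exists I hne 2).1 hd
  match rs, hlen with
  | [a, b], _ => exact ⟨a, b, hmem a (by simp), hmem b (by simp), hreg⟩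

theorem pair_props {A : Type u} [CommRing A] {a b : A} (h : IsWeaklyRegular A [a, b]) :
    (∀ y, a * y = 0 → y = 0) ∧ ∀ y, b * y ∈ Ideal.span {a} → y ∈ Ideal.span {a} := by
  rw [GrothLib.RegSeqLoc.isWeaklyRegular_iff_mem] at h
  refine ⟨fun y hy => ?_, fun y hy => ?_⟩
  · simpa using h 0 (by simp) y (by simp [hy])
  · have := h 1 (by simp) y (by simpa [Ideal.ofList] using hy)
    simpa [Ideal.ofList] using this

section Lift

variable {C : Type u} [CommRing C] [IsLocalRing C] [IsArtinianRing C] {A : Type u} [CommRing A] [Algebra C A]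
  [Module.Flat C A]

local notation "𝔪A" => Ideal.map (algebraMap C A) (maximalIdeal C)

/-- A flat deformation of a determinantal ideal of height two is determinantal. -/
theorem exists_minors_lift (k : Type u) [Field k] [Algebra k (A ⧸ 𝔪A)] [Algebra.Smooth k (A ⧸ 𝔪A)]
    (I : Ideal A) [Module.Flat C (A ⧸ I)]
    (hcodim : ∀ p : Ideal (A ⧸ 𝔪A), p.IsPrime → I.map (Ideal.Quotient.mk 𝔪A) ≤ p → (2 : ℕ∞) ≤ p.height)
    (J : Ideal A) (hJ : J ≤ 𝔪A) {r : ℕ} (φ₁ : Matrix (Fin (r + 1)) (Fin r) (A ⧸ J))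
    (hI : I.map (Ideal.Quotient.mk J) = Ideal.span (Set.range (minors φ₁)))
    (hex : ∀ φ : Matrix (Fin (r + 1)) (Fin r) A, φ.map (Ideal.Quotient.mk J) = φ₁ →
      Injective (φ.map (Ideal.Quotient.mk 𝔪A)).mulVecLin ∧
        LinearMap.ker (Fintype.linearCombination (A ⧸ 𝔪A) (minors (φ.map (Ideal.Quotient.mk 𝔪A)))) ≤
          LinearMap.range (φ.map (Ideal.Quotient.mk 𝔪A)).mulVecLin)
    (hIJ : I ⊓ J ≤ J * I) (hrange : ∀ j, ∑ i, minors φ₁ i * φ₁ i j = 0) :
    ∃ φ : Matrix (Fin (r + 1)) (Fin r) A, φ.map (Ideal.Quotient.mk J) = φ₁ ∧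
      Ideal.span (Set.range (minors φ)) = I ∧ Injective φ.mulVecLin ∧
      LinearMap.range φ.mulVecLin = LinearMap.ker (Fintype.linearCombination A (minors φ)) := by
  classical
  have hgen : ∀ i, ∃ y ∈ I, Ideal.Quotient.mk J y = minors φ₁ i := fun i =>
    (Ideal.mem_map_iff_of_surjective _ Ideal.Quotient.mk_surjective).1 (hI.ge (Ideal.subset_span ⟨i, rfl⟩))
  choose g hgI hg using hgen
  have hspan : Ideal.span (Set.range g) = I := by
    refine le_antisymm (Ideal.span_le.2 (by rintro _ ⟨i, rfl⟩; exact hgI i)) ?_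
    refine GrothLib.DefLift.le_of_le_sup_mul (N := J) ?_ fun y hy => ?_
    · obtain ⟨n, hn⟩ := isNilpotent_map_maximalIdeal (C := C) (A := A)
      exact ⟨n, le_bot_iff.1 ((Ideal.pow_right_mono hJ n).trans hn.le)⟩
    · have h2 : Ideal.Quotient.mk J y ∈ (Ideal.span (Set.range g)).map (Ideal.Quotient.mk J) := by
        rw [Ideal.map_span, ← Set.range_comp, show _ ∘ g = minors φ₁ from funext hg, ← hI]
        exact Ideal.mem_map_of_mem _ hy
      obtain ⟨b, hb, hby⟩ := (Ideal.mem_map_iff_of_surjective _ Ideal.Quotient.mk_surjective).1 h2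
      rw [eq_comm, Ideal.Quotient.eq] at hby
      have hbI : b ∈ I := Ideal.span_le.2 (by rintro _ ⟨i, rfl⟩; exact hgI i) hb
      exact Submodule.mem_sup.2 ⟨b, hb, y - b, hIJ ⟨sub_mem hy hbI, hby⟩, by abel⟩
  choose p hp using fun i j => Ideal.Quotient.mk_surjective (φ₁ i j)
  have hcol : ∀ j, ∃ z : Fin (r + 1) → A, (∀ i, z i ∈ J) ∧ ∑ i, g i * (p i j - z i) = 0 := fun j => by
    have h1 : ∑ i, g i * p i j ∈ J := by
      rw [← Ideal.Quotient.eq_zero_iff_mem, map_sum, ← hrange j]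
      exact Finset.sum_congr rfl fun i _ => by rw [map_mul, hg, hp]
    have h2 : ∑ i, g i * p i j ∈ J * I := hIJ
      ⟨sum_mem fun i _ => Ideal.mul_mem_right _ _ (hgI i), h1⟩
    rw [← hspan, ← smul_eq_mul] at h2
    obtain ⟨c, hc⟩ := (Submodule.mem_ideal_smul_span_iff_exists_sum J g _).1 h2
    refine ⟨fun i => c i, hc.1, ?_⟩
    simp only [mul_sub, Finset.sum_sub_distrib]
    rw [sub_eq_zero, ← hc.2, Finsupp.sum_fintype _ _ (fun i => by simp)]
    exact Finset.sum_congr rfl fun i _ => mul_comm _ _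
  choose z hzJ hz using hcol
  let φ : Matrix (Fin (r + 1)) (Fin r) A := Matrix.of fun i j => p i j - z j i
  have hφ : φ.map (Ideal.Quotient.mk J) = φ₁ := by
    ext i j
    simp [φ, hp, Ideal.Quotient.eq_zero_iff_mem.2 (hzJ j i)]
  have hgφ : Matrix.vecMul g φ = 0 := funext fun j => hz j
  obtain ⟨hinj₀, hker₀⟩ := hex φ hφ
  have hmin : ∀ i, Ideal.Quotient.mk 𝔪A (minors φ i) = minors (φ.map (Ideal.Quotient.mk 𝔪A)) i :=
    map_minors _ φ
  have hfg : ∀ i, Ideal.Quotient.mk 𝔪A (g i) = Ideal.Quotient.mk 𝔪A (minors φ i) := fun i => by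
    rw [Ideal.Quotient.eq]
    refine hJ ?_
    rw [← Ideal.Quotient.eq, hg, map_minors, hφ]
  obtain ⟨hinj, hker, -⟩ := exact_of_fibre φ (minors φ) (vecMul_minors φ) hinj₀
    (by rw [show Ideal.Quotient.mk 𝔪A ∘ minors φ = minors (φ.map (Ideal.Quotient.mk 𝔪A)) from funext hmin]; exact hker₀)
  have hspan₀ : I.map (Ideal.Quotient.mk 𝔪A) = (Ideal.span (Set.range (minors φ))).map (Ideal.Quotient.mk 𝔪A) := by
    rw [← hspan, Ideal.map_span, Ideal.map_span, ← Set.range_comp, ← Set.range_comp]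
    congr 2
    exact funext hfg
  haveI : IsNoetherianRing (A ⧸ 𝔪A) := Algebra.FiniteType.isNoetherianRing k _
  haveI := isCohenMacaulayRing_of_smooth k (A ⧸ 𝔪A)
  obtain ⟨a₀, b₀, ha₀, hb₀, hreg⟩ := exists_pair (A ⧸ 𝔪A) _ hcodim
  rw [hspan₀] at ha₀ hb₀
  obtain ⟨a, ha, rfl⟩ := (Ideal.mem_map_iff_of_surjective _ Ideal.Quotient.mk_surjective).1 ha₀
  obtain ⟨b, hb, rfl⟩ := (Ideal.mem_map_iff_of_surjective _ Ideal.Quotient.mk_surjective).1 hb₀
  obtain ⟨hab, -⟩ := GrothLib.DefLift.regular_of_fibre (C := C) [a, b] hreg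
  obtain ⟨h1, h2⟩ := pair_props hab
  obtain ⟨c, hc⟩ := exists_eq_mul φ (minors φ) g hker hgφ a b ha hb h1 h2
  have hc1 : c - 1 ∈ 𝔪A := by
    rw [← Ideal.Quotient.eq_zero_iff_mem]
    refine (pair_props hreg).1 _ ?_
    obtain ⟨α, hα⟩ := (Submodule.mem_span_range_iff_exists_fun A).1 ha
    rw [← map_mul, ← hα, Finset.sum_mul, map_sum]
    refine Finset.sum_eq_zero fun i _ => ?_
    rw [smul_eq_mul, mul_assoc, map_mul, mul_sub, mul_one, map_sub, mul_comm _ c, ← hc, hfg, sub_self, mul_zero]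
  refine ⟨φ, hφ, ?_, hinj, hker⟩
  rw [← hspan]
  exact (span_range_mul_unit _ _ (isUnit_of_sub_one_mem hc1) hc).symm

end Lift

end GrothLib.HB26
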