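import Groth.Prelude.Def_CAlg
import Groth.Agent.Lib.RegLoc.Basic
import Groth.Agent.Lib.Depth.Reduce
import Groth.Agent.Lib.Depth.Transfer
import Groth.Agent.Lib.Depth.CM
import Mathlib

/-!
# Maximal Cohen–Macaulay modules over regular local rings are free
-/

universe u

noncomputable section

namespace GrothLib.HB26

open IsLocalRing RingTheory.Sequence
open scoped Pointwise

theorem free_of_quotient {R M : Type u} [CommRing R] [IsLocalRing R] [IsNoetherianRing R] [AddCommGroup M]
    [Module R M] [Module.Finite R M] {x : R} (hx : x ∈ maximalIdeal R) (hreg : IsSMulRegular M x)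
    [Module.Free (R ⧸ Ideal.span {x}) (M ⧸ (Ideal.span {x} • ⊤ : Submodule R M))] : Module.Free R M := by
  classical
  let I := Ideal.span {x}
  haveI : Nontrivial (R ⧸ I) := Ideal.Quotient.nontrivial_iff.2 fun h =>
    (maximalIdeal.isMaximal R).ne_top (top_le_iff.1 (h ▸ (Ideal.span_singleton_le_iff_mem _).2 hx))
  let b := Module.Free.chooseBasis (R ⧸ I) (M ⧸ (I • ⊤ : Submodule R M))
  choose v hv using fun i => Submodule.Quotient.mk_surjective (I • ⊤ : Submodule R M) (b i)
  let φ := Fintype.linearCombination R v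
  have hmk : ∀ (r : R) (m : M), (Submodule.Quotient.mk (r • m) : M ⧸ (I • ⊤ : Submodule R M)) =
      Ideal.Quotient.mk I r • Submodule.Quotient.mk m := fun r m => rfl
  have hsurj : Function.Surjective φ := by
    rw [← LinearMap.range_eq_top]
    refine top_le_iff.1 (Submodule.le_of_le_smul_of_le_jacobson_bot (I := I) Module.Finite.fg_top
      (((Ideal.span_singleton_le_iff_mem _).2 hx).trans (maximalIdeal_le_jacobson _)) fun m _ => ?_)
    choose c hc using fun i => Ideal.Quotient.mk_surjective (b.repr (Submodule.Quotient.mk m) i)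
    refine Submodule.mem_sup.2 ⟨φ c, ⟨c, rfl⟩, m - φ c, ?_, add_sub_cancel _ _⟩
    rw [← Submodule.Quotient.eq, Fintype.linearCombination_apply, ← Submodule.mkQ_apply (p := I • ⊤) (∑ i, c i • v i),
      map_sum]
    exact ((Finset.sum_congr rfl fun i _ => (by
      show Submodule.Quotient.mk (c i • v i) = _
      rw [hmk, hv, hc])).trans (b.sum_repr _)).symm
  have hker : LinearMap.ker φ = ⊥ := by
    refine Submodule.eq_bot_of_le_smul_of_le_jacobson_bot I _ (IsNoetherian.noetherian _) (fun a ha => ?_)
      (((Ideal.span_singleton_le_iff_mem _).2 hx).trans (maximalIdeal_le_jacobson _))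
    have h0 : ∑ i, Ideal.Quotient.mk I (a i) • b i = 0 := by
      have := congrArg (Submodule.mkQ (I • ⊤ : Submodule R M)) ha
      rw [Fintype.linearCombination_apply, map_sum, map_zero] at this
      refine Eq.trans (Finset.sum_congr rfl fun i _ => ?_) this
      rw [Submodule.mkQ_apply, hmk, hv]
    have hi : ∀ i, a i ∈ I := fun i => Ideal.Quotient.eq_zero_iff_mem.1
      (Fintype.linearIndependent_iff.1 b.linearIndependent _ h0 i)
    choose c hc using fun i => Ideal.mem_span_singleton'.1 (hi i)
    have hca : a = x • c := funext fun i => by rw [Pi.smul_apply, smul_eq_mul, mul_comm, hc]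
    have hck : c ∈ LinearMap.ker φ := hreg (by
      show x • φ c = x • 0
      rw [← map_smul, ← hca, LinearMap.mem_ker.1 ha, smul_zero])
    rw [hca]
    exact Submodule.smul_mem_smul (Ideal.mem_span_singleton_self x) hck
  exact Module.Free.of_equiv (LinearEquiv.ofBijective φ ⟨LinearMap.ker_eq_bot.1 hker, hsurj⟩)

theorem free_of_depth : ∀ (d : ℕ) (R : Type u) [CommRing R] [IsRegularLocalRing R],
    (maximalIdeal R).spanFinrank = d → ∀ (M : Type u) [AddCommGroup M] [Module R M] [Module.Finite R M],
      (d : ℕ∞) ≤ LocCoh.idealDepth (maximalIdeal R) M → Module.Free R M := by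
  intro d
  induction d with
  | zero =>
    intro R _ _ hd M _ _ _ _
    have hbot : maximalIdeal R = ⊥ :=
      (Submodule.spanFinrank_eq_zero_iff_eq_bot (IsNoetherian.noetherian (maximalIdeal R))).1 hd
    have hF : IsField R := IsLocalRing.isField_iff_maximalIdeal_eq.2 hbot
    letI := hF.toField
    infer_instance
  | succ d ih =>
    intro R _ _ hd M _ _ _ hdepth
    rcases subsingleton_or_nontrivial M with hM | hM
    · infer_instance
    have hne : maximalIdeal R ≠ ⊤ := (maximalIdeal.isMaximal R).ne_top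
    obtain ⟨r, hr, hrreg⟩ := (GrothLib.Depth.one_le_idealDepth_iff (M := M) hne).1 (le_trans (by simp) hdepth)
    have hfin : (associatedPrimes R M).Finite := associatedPrimes.finite R M
    obtain ⟨x, hx, hx2, hxa⟩ : ∃ x ∈ maximalIdeal R, x ∉ maximalIdeal R ^ 2 ∧ ∀ p ∈ associatedPrimes R M, x ∉ p := by
      classical
      by_contra hcon
      push Not at hcon
      have hsub : ((maximalIdeal R : Set R)) ⊆
          ⋃ i ∈ (↑(insert (maximalIdeal R ^ 2) hfin.toFinset) : Set (Ideal R)), (i : Set R) := by
        intro y hy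
        by_cases h2 : y ∈ maximalIdeal R ^ 2
        · exact Set.mem_iUnion₂.2 ⟨_, Finset.mem_insert_self _ _, h2⟩
        · obtain ⟨p, hp, hyp⟩ := hcon y hy h2
          exact Set.mem_iUnion₂.2 ⟨p, Finset.mem_insert_of_mem (hfin.mem_toFinset.2 hp), hyp⟩
      have hsub := (Ideal.subset_union_prime (R := R) (I := maximalIdeal R) (f := fun i : Ideal R => i) (maximalIdeal R ^ 2) (maximalIdeal R ^ 2) (fun i hi h1 _ => by
        rcases Finset.mem_insert.1 hi with h | h
        · exact absurd h h1
        · exact (hfin.mem_toFinset.1 h).isPrime)).1 hsub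
      obtain ⟨i, hi, hle⟩ := hsub
      rcases Finset.mem_insert.1 hi with h | h
      · have hle' : maximalIdeal R ≤ maximalIdeal R ^ 2 := h ▸ hle
        have h0 : maximalIdeal R = ⊥ := Submodule.eq_bot_of_le_smul_of_le_jacobson_bot _ _ (IsNoetherian.noetherian _)
          (by rw [smul_eq_mul, ← sq]; exact hle') (maximalIdeal_le_jacobson _)
        rw [h0, Submodule.spanFinrank_bot] at hd
        omega
      · have hp := hfin.mem_toFinset.1 h
        have : r ∈ ⋃ p ∈ associatedPrimes R M, (p : Set R) := Set.mem_iUnion₂.2 ⟨i, hp, hle hr⟩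
        rw [biUnion_associatedPrimes_eq_zero_divisors] at this
        obtain ⟨z, hz0, hz⟩ := this
        exact hz0 (isSMulRegular_iff_right_eq_zero_of_smul.1 hrreg z hz)
    have hxreg : IsSMulRegular M x := by
      rw [isSMulRegular_iff_right_eq_zero_of_smul]
      intro z hz
      by_contra hz0
      have : x ∈ ⋃ p ∈ associatedPrimes R M, (p : Set R) := by
        rw [biUnion_associatedPrimes_eq_zero_divisors]
        exact ⟨z, hz0, hz⟩
      obtain ⟨p, hp, hxp⟩ := Set.mem_iUnion₂.1 this
      exact hxa p hp hxp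
    obtain ⟨hR', -, hspan⟩ := GrothLib.RegLoc.quotient_isRegularLocalRing hx hx2
    rw [GrothLib.RegLoc.map_maximalIdeal_quotient, hd] at hspan
    let e : QuotSMulTop x M ≃ₗ[R] M ⧸ (Ideal.span {x} • ⊤ : Submodule R M) :=
      Submodule.quotEquivOfEq _ _ (Submodule.ideal_span_singleton_smul x ⊤).symm
    have h1 : (d : ℕ∞) ≤ LocCoh.idealDepth (maximalIdeal (R ⧸ Ideal.span {x})) (M ⧸ (Ideal.span {x} • ⊤ : Submodule R M)) := by
      rw [← GrothLib.RegLoc.map_maximalIdeal_quotient (I := Ideal.span {x}),
        show Ideal.Quotient.mk (Ideal.span {x}) = algebraMap R (R ⧸ Ideal.span {x}) from rfl,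
        GrothLib.Depth.idealDepth_map_eq, ← GrothLib.Depth.idealDepth_eq_of_equiv _ e]
      have h2 := GrothLib.Depth.idealDepth_quotSMulTop_add_one (maximalIdeal R) hx hxreg
      rw [← h2] at hdepth
      exact (WithTop.add_le_add_iff_right ENat.one_ne_top).1 (by exact_mod_cast hdepth)
    haveI := hR'
    haveI : Module.Finite (R ⧸ Ideal.span {x}) (M ⧸ (Ideal.span {x} • ⊤ : Submodule R M)) :=
      Module.Finite.of_restrictScalars_finite R _ _
    haveI := ih (R ⧸ Ideal.span {x}) (by omega) (M ⧸ (Ideal.span {x} • ⊤ : Submodule R M)) h1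
    exact free_of_quotient hx hxreg

theorem free_of_depth_ge_dim (R : Type u) [CommRing R] [IsRegularLocalRing R] (M : Type u) [AddCommGroup M]
    [Module R M] [Module.Finite R M] (d : ℕ) (hd : ringKrullDim R = d)
    (h : (d : ℕ∞) ≤ LocCoh.idealDepth (maximalIdeal R) M) : Module.Free R M := by
  refine free_of_depth _ R rfl M ?_
  rw [← IsRegularLocalRing.spanFinrank_maximalIdeal (R := R)] at hd
  norm_cast at hd
  rwa [hd]

/-- Finite free modules over a regular local ring have full depth. -/
theorem le_idealDepth_free (R : Type u) [CommRing R] [IsRegularLocalRing R] (M : Type u) [AddCommGroup M]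
    [Module R M] [Module.Free R M] [Module.Finite R M] (d : ℕ) (hd : ringKrullDim R = d) :
    (d : ℕ∞) ≤ LocCoh.idealDepth (maximalIdeal R) M := by
  rcases subsingleton_or_nontrivial M with hM | hM
  · rw [LocCoh.idealDepth, if_pos (Subsingleton.elim _ _)]; exact le_top
  obtain ⟨rs, h1, h2, h3⟩ := GrothLib.CMFree.exists_weaklyRegular_of_isRegularLocalRing R
  rw [hd] at h3
  norm_cast at h3
  have hne : maximalIdeal R • (⊤ : Submodule R M) ≠ ⊤ :=
    GrothLib.Depth.smul_top_ne_top (maximalIdeal.isMaximal R).ne_top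
  refine (GrothLib.Depth.le_idealDepth_iff_exists _ hne d).2 ⟨rs, h3, h2, ?_⟩
  exact ((TensorProduct.rid R M).isWeaklyRegular_congr rs).1 (h1.isWeaklyRegular_lTensor)

end GrothLib.HB26
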