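import Groth.Agent.Lib.HB26.Basic
import Groth.Agent.Lib.HB26.MCM
import Groth.Agent.Lib.RegUFD.Basic
import Groth.Agent.S0321

/-!
# The theorem of Hilbert and Burch in regular local rings
-/

universe u

noncomputable section

namespace GrothLib.HB26

open Function IsLocalRing

/-- A vector killed by the matrix is proportional to the minors. -/
theorem minors_mul_comm {A : Type u} [CommRing A] {r : ℕ} (φ : Matrix (Fin (r + 1)) (Fin r) A)
    (g : Fin (r + 1) → A) (hg : Matrix.vecMul g φ = 0) (i j : Fin (r + 1)) :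
    g j * minors φ i = g i * minors φ j := by
  classical
  let M : Matrix (Fin (r + 1)) (Fin (r + 1)) A :=
    Matrix.of fun k => (Fin.cons ((Pi.single i 1 : Fin (r + 1) → A) k) (φ k) : Fin (r + 1) → A)
  have hsub : ∀ (w : Fin (r + 1) → A) (k : Fin (r + 1)),
      (Matrix.of fun k => (Fin.cons (w k) (φ k) : Fin (r + 1) → A)).submatrix k.succAbove Fin.succ =
        φ.submatrix k.succAbove id := fun w k => by
    ext a b; simp
  have hdet : M.det = minors φ i := by
    rw [Matrix.det_succ_column_zero]
    simp only [M, hsub, Matrix.of_apply, Fin.cons_zero, minors]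
    rw [Finset.sum_eq_single i (fun k _ hk => by rw [Pi.single_eq_of_ne hk, mul_zero, zero_mul])
      (fun h => absurd (Finset.mem_univ i) h), Pi.single_eq_same, mul_one]
  have h1 := Matrix.det_updateRow_sum M j g
  have hrow : (∑ k, g k • M k) = (Fin.cons (g i) (0 : Fin r → A) : Fin (r + 1) → A) := by
    funext l
    rw [Finset.sum_apply]
    refine Fin.cases ?_ (fun l => ?_) l
    · simp [M, Pi.single_apply]
    · have := congrFun hg l
      simpa [M, Matrix.vecMul, dotProduct] using this
  have h3 : ∀ k : Fin (r + 1),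
      (M.updateRow j (Fin.cons (g i) (0 : Fin r → A))) k 0 *
          ((M.updateRow j (Fin.cons (g i) (0 : Fin r → A))).submatrix k.succAbove Fin.succ).det =
        if k = j then g i * (φ.submatrix j.succAbove id).det else 0 := fun k => by
    by_cases hk : k = j
    · subst hk
      rw [if_pos rfl, Matrix.updateRow_self, Fin.cons_zero]
      congr 2
      ext a b
      simp [M, Matrix.updateRow_ne (Fin.succAbove_ne k a)]
    · obtain ⟨a, ha⟩ := Fin.exists_succAbove_eq (Ne.symm hk)
      rw [if_neg hk, Matrix.det_eq_zero_of_row_eq_zero a (fun b => by simp [ha]), mul_zero]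
  have h4 : (M.updateRow j (Fin.cons (g i) (0 : Fin r → A))).det = g i * minors φ j := by
    rw [Matrix.det_succ_column_zero, Finset.sum_congr rfl fun k _ => by rw [mul_assoc, h3 k]]
    simp [minors]
    ring
  rw [hrow, h4, smul_eq_mul, hdet] at h1
  exact h1.symm

/-- An injective matrix over a field has a nonzero maximal minor. -/
theorem exists_minors_ne_zero {K : Type u} [Field K] {r : ℕ} (φ : Matrix (Fin (r + 1)) (Fin r) K)
    (h : Injective φ.mulVecLin) : ∃ i, minors φ i ≠ 0 := by
  classical
  by_contra hcon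
  push Not at hcon
  have hne : LinearMap.range φ.mulVecLin ≠ ⊤ := fun h' => by
    have h2 := LinearMap.finrank_range_of_inj h
    rw [h', finrank_top] at h2
    simp at h2
  obtain ⟨w, hw⟩ : ∃ w, w ∉ LinearMap.range φ.mulVecLin := by
    by_contra hc
    push Not at hc
    exact hne (eq_top_iff.2 fun w _ => hc w)
  let M : Matrix (Fin (r + 1)) (Fin (r + 1)) K := Matrix.of fun k => (Fin.cons (w k) (φ k) : Fin (r + 1) → K)
  have hdet : M.det = 0 := by
    rw [Matrix.det_succ_column_zero]
    refine Finset.sum_eq_zero fun k _ => ?_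
    have hk : M.submatrix k.succAbove Fin.succ = φ.submatrix k.succAbove id := by ext a b; simp [M]
    rw [hk, mul_right_comm]
    have := hcon k
    simp only [minors] at this
    rw [this, zero_mul]
  obtain ⟨v, hv, hv0⟩ := Matrix.exists_mulVec_eq_zero_iff.2 hdet
  have e : ∀ k, w k * v 0 + φ.mulVec (fun l => v l.succ) k = 0 := fun k => by
    have := congrFun hv0 k
    simpa [M, Matrix.mulVec, dotProduct, Fin.sum_univ_succ] using this
  by_cases hv' : v 0 = 0
  · have h2 : φ.mulVecLin (fun l => v l.succ) = 0 := funext fun k => by simpa [hv'] using e k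
    have h3 := h (h2.trans (map_zero _).symm)
    exact hv (funext fun l => Fin.cases hv' (fun l => congrFun h3 l) l)
  · refine hw ⟨-(v 0)⁻¹ • fun l => v l.succ, funext fun k => ?_⟩
    rw [map_smul, Pi.smul_apply, smul_eq_mul, Matrix.mulVecLin_apply, eq_neg_of_add_eq_zero_right (e k)]
    field_simp

theorem map_sub_mulVec {A B : Type u} [CommRing A] [CommRing B] (f : A →+* B) {n r : ℕ}
    (φ : Matrix (Fin n) (Fin r) A) (x : Fin r → A) : f ∘ φ.mulVec x = (φ.map f).mulVec (f ∘ x) :=
  funext fun i => RingHom.map_mulVec f φ x i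

/-- The maximal minors of the first syzygy matrix have no common prime factor. -/
theorem not_forall_dvd_minors {A : Type u} [CommRing A] [IsDomain A] {r : ℕ} (φ : Matrix (Fin (r + 1)) (Fin r) A)
    (g : Fin (r + 1) → A) (hinj : Injective φ.mulVecLin)
    (hker : LinearMap.range φ.mulVecLin = LinearMap.ker (Fintype.linearCombination A g))
    (π : A) (hπ : Prime π) : ¬ ∀ i, π ∣ minors φ i := by
  intro hdvd
  classical
  let P := Ideal.span {π}
  haveI : P.IsPrime := (Ideal.span_singleton_prime hπ.ne_zero).2 hπ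
  let K := FractionRing (A ⧸ P)
  let ρ : A →+* K := (algebraMap (A ⧸ P) K).comp (Ideal.Quotient.mk P)
  have hnot : ¬ Injective (φ.map ρ).mulVecLin := fun h => by
    obtain ⟨i, hi⟩ := exists_minors_ne_zero _ h
    refine hi ?_
    rw [← map_minors]
    show algebraMap (A ⧸ P) K (Ideal.Quotient.mk P (minors φ i)) = 0
    rw [Ideal.Quotient.eq_zero_iff_mem.2 (Ideal.mem_span_singleton.2 (hdvd i)), map_zero]
  obtain ⟨v, hv, hv0⟩ : ∃ v : Fin r → K, (φ.map ρ).mulVec v = 0 ∧ v ≠ 0 := by
    rw [injective_iff_map_eq_zero] at hnot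
    push Not at hnot
    obtain ⟨v, hv, hv0⟩ := hnot
    exact ⟨v, hv, hv0⟩
  obtain ⟨b, hb⟩ := IsLocalization.exist_integer_multiples_of_finite (nonZeroDivisors (A ⧸ P)) v
  choose z hz using fun i => hb i
  choose x hx using fun i => Ideal.Quotient.mk_surjective (z i)
  have hρx : ρ ∘ x = (b : A ⧸ P) • v := funext fun i => by
    show algebraMap (A ⧸ P) K (Ideal.Quotient.mk P (x i)) = _
    rw [hx]
    exact hz i
  have h0 : ∀ i, φ.mulVec x i ∈ P := fun i => by
    have h1 : ρ (φ.mulVec x i) = 0 := by
      have := congrFun (map_sub_mulVec ρ φ x) i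
      simp only [Function.comp_apply] at this
      rw [this, hρx, Matrix.mulVec_smul, hv, smul_zero]
      rfl
    have h2 : algebraMap (A ⧸ P) K (Ideal.Quotient.mk P (φ.mulVec x i)) = 0 := h1
    exact Ideal.Quotient.eq_zero_iff_mem.1 ((IsFractionRing.injective (A ⧸ P) K) (h2.trans (map_zero _).symm))
  choose w hw using fun i => Ideal.mem_span_singleton'.1 (h0 i)
  have hwk : w ∈ LinearMap.range φ.mulVecLin := by
    rw [hker, LinearMap.mem_ker]
    refine (mul_eq_zero.1 (?_ : π * Fintype.linearCombination A g w = 0)).resolve_left hπ.ne_zero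
    have : φ.mulVecLin x = π • w := funext fun i => by
      rw [Pi.smul_apply, smul_eq_mul, mul_comm, hw]; rfl
    rw [← smul_eq_mul, ← map_smul, ← this]
    exact LinearMap.mem_ker.1 (hker.le ⟨x, rfl⟩)
  obtain ⟨u, hu⟩ := hwk
  have hxu : x = π • u := hinj (by
    rw [map_smul, hu]
    exact funext fun i => by rw [Pi.smul_apply, smul_eq_mul, mul_comm, hw]; rfl)
  obtain ⟨l, hl⟩ : ∃ l, v l ≠ 0 := by
    by_contra hc; push Not at hc; exact hv0 (funext hc)
  have h5 : ρ (x l) = 0 := by
    rw [hxu, Pi.smul_apply, smul_eq_mul, map_mul]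
    have : ρ π = 0 := by
      show algebraMap (A ⧸ P) K (Ideal.Quotient.mk P π) = 0
      rw [Ideal.Quotient.eq_zero_iff_mem.2 (Ideal.mem_span_singleton_self π), map_zero]
    rw [this, zero_mul]
  have h6 := congrFun hρx l
  simp only [Function.comp_apply, Pi.smul_apply] at h6
  rw [h5, Algebra.smul_def, eq_comm] at h6
  rcases mul_eq_zero.1 h6 with h | h
  · exact nonZeroDivisors.coe_ne_zero b ((IsFractionRing.injective (A ⧸ P) K) (h.trans (map_zero _).symm))
  · exact hl h

theorem exists_presentation {A : Type u} [CommRing A] [IsRegularLocalRing A] (I : Ideal A)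
    [LocCoh.IsCohenMacaulayLocalRing (A ⧸ I)] (hcodim : ringKrullDim (A ⧸ I) + 2 = ringKrullDim A) :
    ∃ (r : ℕ) (φ : Matrix (Fin (r + 1)) (Fin r) A) (g : Fin (r + 1) → A),
      Ideal.span (Set.range g) = I ∧ I.spanFinrank = r + 1 ∧ Injective φ.mulVecLin ∧
        LinearMap.range φ.mulVecLin = LinearMap.ker (Fintype.linearCombination A g) := by
  classical
  haveI := GrothLib.CMFree.isDomain_of_isRegularLocalRing A
  obtain ⟨d, hd⟩ : ∃ d : ℕ, ringKrullDim A = d := ⟨_, (IsRegularLocalRing.spanFinrank_maximalIdeal (R := A)).symm⟩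
  obtain ⟨e, he⟩ : ∃ e : ℕ, ringKrullDim (A ⧸ I) = e := by
    obtain ⟨e, he, -⟩ := GrothLib.RegLoc.exists_dim_eq (R := A ⧸ I)
    exact ⟨e, he⟩
  have hde : e + 2 = d := by
    rw [he, hd] at hcodim; exact_mod_cast hcodim
  have hIne : I ≠ ⊥ := fun h => by
    subst h
    have := ringKrullDim_eq_of_ringEquiv (RingEquiv.quotientBot A)
    rw [he, hd] at this
    norm_cast at this
    omega
  obtain ⟨s, hs, hspan⟩ := Submodule.FG.exists_span_finset_card_eq_spanFinrank (IsNoetherian.noetherian I)
  let n := s.card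
  let g : Fin n → A := fun i => (s.equivFin.symm i : A)
  have hrange : Set.range g = (s : Set A) := by
    ext y
    refine ⟨fun ⟨i, hi⟩ => hi ▸ (s.equivFin.symm i).2, fun hy => ⟨s.equivFin ⟨y, hy⟩, by simp [g]⟩⟩
  have hgI : Ideal.span (Set.range g) = I := by rw [hrange]; exact hspan
  let f : (Fin n → A) →ₗ[A] I := LinearMap.codRestrict I (Fintype.linearCombination A g) fun c => by
    rw [← hgI]; exact (Submodule.mem_span_range_iff_exists_fun A).2 ⟨c, rfl⟩
  have hf : Surjective f := fun y => by
    obtain ⟨c, hc⟩ := (Submodule.mem_span_range_iff_exists_fun A).1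
      (show (y : A) ∈ Ideal.span (Set.range g) by rw [hgI]; exact y.2)
    exact ⟨c, Subtype.ext hc⟩
  let K := LinearMap.ker f
  have hCM : ((e : ℕ) : ℕ∞) ≤ LocCoh.idealDepth (maximalIdeal A) (A ⧸ I) := by
    rw [← GrothLib.Depth.idealDepth_map_eq (A := A) (B := A ⧸ I) (maximalIdeal A) (A ⧸ I),
      show algebraMap A (A ⧸ I) = Ideal.Quotient.mk I from rfl, GrothLib.RegLoc.map_maximalIdeal_quotient]
    have h := (‹LocCoh.IsCohenMacaulayLocalRing (A ⧸ I)›).supportDim_eq_depth
    rw [Module.supportDim_self_eq_ringKrullDim, he] at h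
    exact (WithBot.coe_inj.1 h).le
  have hA := le_idealDepth_free A A d hd
  have hI : ((e + 1 : ℕ) : ℕ∞) ≤ LocCoh.idealDepth (maximalIdeal A) I := by
    refine le_trans (le_min ?_ ?_) ((Groth.Agent.S0321.result A (maximalIdeal A) I A (A ⧸ I) (Submodule.subtype I)
      (Submodule.mkQ I) Subtype.val_injective (Submodule.mkQ_surjective I) (LinearMap.exact_subtype_mkQ I)).2.2)
    · exact le_trans (by exact_mod_cast (by omega : e + 1 ≤ d)) hA
    · push_cast
      exact add_le_add hCM le_rfl
  have hK : (d : ℕ∞) ≤ LocCoh.idealDepth (maximalIdeal A) K := by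
    refine le_trans (le_min ?_ ?_) ((Groth.Agent.S0321.result A (maximalIdeal A) K (Fin n → A) I K.subtype
      f Subtype.val_injective hf (LinearMap.exact_subtype_ker_map f)).2.2)
    · exact le_idealDepth_free A _ d hd
    · have := add_le_add hI (le_refl (1 : ℕ∞))
      refine le_trans ?_ this
      exact_mod_cast (by omega : d ≤ e + 1 + 1)
  haveI : Module.Free A K := free_of_depth_ge_dim A K d hd hK
  have hrk : Module.finrank A K + 1 = n := by
    have h1 := Submodule.finrank_quotient_add_finrank K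
    rw [LinearEquiv.finrank_eq (f.quotKerEquivOfSurjective hf), Module.finrank_fin_fun] at h1
    have h2 : Module.finrank A I = 1 := by
      refine le_antisymm ((Submodule.finrank_le I).trans (Module.finrank_self A).le) ?_
      obtain ⟨a, ha, ha0⟩ := Submodule.exists_mem_ne_zero_of_ne_bot hIne
      exact Module.finrank_pos_iff_exists_ne_zero.2 ⟨⟨a, ha⟩, fun h => ha0 (congrArg Subtype.val h)⟩
    omega
  obtain ⟨r, hr⟩ : ∃ r, n = r + 1 := ⟨_, hrk.symm⟩
  let b := Module.finBasisOfFinrankEq A K (show Module.finrank A K = r by omega)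
  let eqv : Fin (r + 1) ≃ Fin n := finCongr hr.symm
  let φ : Matrix (Fin (r + 1)) (Fin r) A := Matrix.of fun i j => (b j : Fin n → A) (eqv i)
  have hφ : ∀ x : Fin r → A, φ.mulVecLin x = (∑ j, x j • (b j : Fin n → A)) ∘ eqv := fun x => funext fun i => by
    simp [φ, Matrix.mulVec, dotProduct, Finset.sum_apply, mul_comm]
  refine ⟨r, φ, g ∘ eqv, ?_, hs.symm.trans hr, ?_, ?_⟩
  · rw [Set.range_comp, eqv.surjective.range_eq, Set.image_univ, hgI]
  · rw [injective_iff_map_eq_zero]
    intro x hx
    rw [hφ] at hx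
    have h1 : ∑ j, x j • b j = 0 := Subtype.ext (funext fun i => by
      have := congrFun hx (eqv.symm i)
      simpa using this)
    exact funext fun j => Fintype.linearIndependent_iff.1 b.linearIndependent x h1 j
  · have hlc : ∀ y : Fin n → A, Fintype.linearCombination A (g ∘ eqv) (y ∘ eqv) = Fintype.linearCombination A g y :=
      fun y => by
        simp only [Fintype.linearCombination_apply, Function.comp_apply]
        exact eqv.sum_comp fun i => y i • g i
    ext y
    rw [LinearMap.mem_range, LinearMap.mem_ker]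
    constructor
    · rintro ⟨x, rfl⟩
      rw [hφ, hlc]
      have h1 : f (∑ j, x j • (b j : Fin n → A)) = 0 := by
        rw [map_sum]
        refine Finset.sum_eq_zero fun j _ => ?_
        rw [map_smul, LinearMap.mem_ker.1 (b j).2, smul_zero]
      exact congrArg Subtype.val h1
    · intro hy
      have hy' : y ∘ eqv.symm ∈ K := by
        refine LinearMap.mem_ker.2 (Subtype.ext ?_)
        show Fintype.linearCombination A g (y ∘ eqv.symm) = 0
        rw [← hlc]
        simpa [Function.comp_def] using hy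
      refine ⟨fun j => b.repr ⟨_, hy'⟩ j, ?_⟩
      rw [hφ]
      have := congrArg (Subtype.val : K → _) (b.sum_repr ⟨_, hy'⟩)
      simp only [AddSubmonoidClass.coe_finsetSum, Submodule.coe_smul] at this
      rw [this]
      funext i
      simp

/-- Hilbert–Burch for regular local rings. -/
theorem exists_minors_presentation {A : Type u} [CommRing A] [IsRegularLocalRing A] (I : Ideal A)
    [LocCoh.IsCohenMacaulayLocalRing (A ⧸ I)] (hcodim : ringKrullDim (A ⧸ I) + 2 = ringKrullDim A) :
    ∃ (r : ℕ) (φ : Matrix (Fin (r + 1)) (Fin r) A),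
      Ideal.span (Set.range (minors φ)) = I ∧ I.spanFinrank = r + 1 ∧ Injective φ.mulVecLin ∧
        LinearMap.range φ.mulVecLin = LinearMap.ker (Fintype.linearCombination A (minors φ)) := by
  classical
  haveI := GrothLib.CMFree.isDomain_of_isRegularLocalRing A
  haveI : UniqueFactorizationMonoid A := GrothLib.RegUFD.ufd_of_isRegularLocalRing A
  obtain ⟨r, φ, g, hgI, hcard, hinj, hker⟩ := exists_presentation I hcodim
  have hIlt : ∀ π : A, Prime π → ¬ I ≤ Ideal.span {π} := fun π hπ hle => by
    have hmem : π ∈ maximalIdeal A := (mem_maximalIdeal π).2 hπ.not_unit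
    haveI := GrothLib.RegLoc.isLocalRing_quotient ((Ideal.span_singleton_le_iff_mem _).2 hmem)
    have h1 := ringKrullDim_quotient_span_singleton_succ_eq_ringKrullDim_of_mem_nonZeroDivisors
      (mem_nonZeroDivisors_of_ne_zero hπ.ne_zero) hmem
    have h2 := ringKrullDim_le_of_surjective (Ideal.Quotient.factor hle) (Ideal.Quotient.factor_surjective hle)
    obtain ⟨q, hq, -⟩ := GrothLib.RegLoc.exists_dim_eq (R := A ⧸ Ideal.span {π})
    obtain ⟨e, he, -⟩ := GrothLib.RegLoc.exists_dim_eq (R := A ⧸ I)
    rw [← hcodim, hq, he] at h1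
    rw [hq, he] at h2
    norm_cast at h1 h2
    omega
  have hIne : I ≠ ⊥ := fun h => by
    subst h
    obtain ⟨e, he, -⟩ := GrothLib.RegLoc.exists_dim_eq (R := A)
    have := ringKrullDim_eq_of_ringEquiv (RingEquiv.quotientBot A)
    rw [this, he] at hcodim
    norm_cast at hcodim
    omega
  obtain ⟨a, ha, ha0⟩ := Submodule.exists_mem_ne_zero_of_ne_bot hIne
  let S : Set (Ideal A) := (fun π => Ideal.span {π}) '' {π | π ∈ UniqueFactorizationMonoid.factors a}
  obtain ⟨b, hb, hbS⟩ := GrothLib.LC.exists_mem_forall_notMem (I := I) (S := S)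
    ((Multiset.toFinset (UniqueFactorizationMonoid.factors a)).finite_toSet.subset
      (fun π hπ => by simpa using hπ) |>.image _)
    (fun P ⟨π, hπ, h⟩ => h ▸ (Ideal.span_singleton_prime
      (UniqueFactorizationMonoid.prime_of_factor π hπ).ne_zero).2 (UniqueFactorizationMonoid.prime_of_factor π hπ))
    (fun P ⟨π, hπ, h⟩ => h ▸ hIlt π (UniqueFactorizationMonoid.prime_of_factor π hπ))
  have hab : ∀ y, b * y ∈ Ideal.span {a} → y ∈ Ideal.span {a} := fun y hy => by
    rw [Ideal.mem_span_singleton] at hy ⊢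
    refine UniqueFactorizationMonoid.dvd_of_dvd_mul_left_of_no_prime_factors ha0 (fun d hda hdb hd => ?_)
      (by rw [mul_comm]; exact hy)
    obtain ⟨π, hπ, hassoc⟩ := UniqueFactorizationMonoid.exists_mem_factors_of_dvd ha0 hd.irreducible hda
    exact hbS _ ⟨π, hπ, rfl⟩ (Ideal.mem_span_singleton.2 (hassoc.symm.dvd.trans hdb))
  obtain ⟨c, hc⟩ := exists_eq_mul φ g (minors φ) hker (vecMul_minors φ) a b (hgI ▸ ha) (hgI ▸ hb)
    (fun y hy => (mul_eq_zero.1 hy).resolve_left ha0) hab
  have hau : ¬ IsUnit a := fun h => by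
    have : I = ⊤ := Ideal.eq_top_of_isUnit_mem _ ha h
    haveI : Subsingleton (A ⧸ I) := Ideal.Quotient.subsingleton_iff.2 this
    exact not_subsingleton (A ⧸ I) inferInstance
  have hcu : IsUnit c := by
    by_contra hcu
    have key : ∀ q : A, q ≠ 0 → ¬ IsUnit q → q ∣ c → False := fun q hq0 hqu hqc => by
      obtain ⟨π, hπ, hπq⟩ := WfDvdMonoid.exists_irreducible_factor hqu hq0
      exact not_forall_dvd_minors φ g hinj hker π (UniqueFactorizationMonoid.irreducible_iff_prime.1 hπ)
        fun i => by rw [hc i]; exact dvd_mul_of_dvd_left (hπq.trans hqc) _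
    by_cases hc0 : c = 0
    · exact key a ha0 hau (hc0 ▸ dvd_zero a)
    · exact key c hc0 hcu dvd_rfl
  refine ⟨r, φ, ?_, hcard, hinj, ?_⟩
  · rw [span_range_mul_unit g (minors φ) hcu hc, hgI]
  · rw [hker]
    ext y
    simp only [LinearMap.mem_ker, Fintype.linearCombination_apply, hc]
    have : ∑ i, y i • (c * g i) = c * ∑ i, y i • g i := by
      rw [Finset.mul_sum]
      exact Finset.sum_congr rfl fun i _ => by simp only [smul_eq_mul]; ring
    rw [this, hcu.mul_right_eq_zero]

end GrothLib.HB26
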