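import Groth.Agent.Lib.HB26.Basic
import Mathlib

/-!
# From exactness modulo `J` to exactness on the special fibre
-/

universe u

noncomputable section

namespace GrothLib.HB26

open Function IsLocalRing

theorem exact_of_ringEquiv {B B' : Type u} [CommRing B] [CommRing B'] (e : B ≃+* B') {n r : ℕ}
    (φ : Matrix (Fin n) (Fin r) B) (g : Fin n → B) (hinj : Injective φ.mulVecLin)
    (hker : LinearMap.ker (Fintype.linearCombination B g) ≤ LinearMap.range φ.mulVecLin) :
    Injective (φ.map e).mulVecLin ∧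
      LinearMap.ker (Fintype.linearCombination B' (e ∘ g)) ≤ LinearMap.range (φ.map e).mulVecLin := by
  have hmap : ∀ x : Fin r → B, e ∘ φ.mulVec x = (φ.map e).mulVec (e ∘ x) := fun x => funext fun i =>
    RingHom.map_mulVec e.toRingHom φ x i
  refine ⟨?_, fun y hy => ?_⟩
  · rw [injective_iff_map_eq_zero]
    intro x hx
    have h : e ∘ φ.mulVec (e.symm ∘ x) = 0 := by
      rw [hmap]
      have : e ∘ e.symm ∘ x = x := funext fun i => e.apply_symm_apply _
      rw [this]
      exact hx
    have h2 : φ.mulVecLin (e.symm ∘ x) = 0 := funext fun i => e.injective ((congrFun h i).trans (map_zero e).symm)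
    have h3 := hinj (h2.trans (map_zero _).symm)
    exact funext fun i => e.symm.injective ((congrFun h3 i).trans (map_zero e.symm).symm)
  · have hy' : e.symm ∘ y ∈ LinearMap.ker (Fintype.linearCombination B g) := by
      rw [LinearMap.mem_ker, Fintype.linearCombination_apply] at hy ⊢
      apply e.injective
      rw [map_zero, map_sum, ← hy]
      simp
    obtain ⟨x, hx⟩ := hker hy'
    refine ⟨e ∘ x, funext fun i => ?_⟩
    show (φ.map e).mulVec (e ∘ x) i = y i
    rw [← hmap]
    exact (congrArg e (congrFun hx i)).trans (e.apply_symm_apply _)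

variable {C : Type u} [CommRing C] [IsLocalRing C] [IsArtinianRing C] {A : Type u} [CommRing A] [Algebra C A]
  [Module.Flat C A]

local notation "𝔪A" => Ideal.map (algebraMap C A) (maximalIdeal C)

/-- Exactness modulo `J` with flat cokernel gives exactness on the special fibre. -/
theorem fibre_exact_of_quotient (J : Ideal C) (hJne : J ≠ ⊤) {r : ℕ}
    (φ : Matrix (Fin (r + 1)) (Fin r) A)
    (hinj : Injective (φ.map (Ideal.Quotient.mk (J.map (algebraMap C A)))).mulVecLin)
    (hker : LinearMap.range (φ.map (Ideal.Quotient.mk (J.map (algebraMap C A)))).mulVecLin =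
      LinearMap.ker (Fintype.linearCombination _ (minors (φ.map (Ideal.Quotient.mk (J.map (algebraMap C A)))))))
    [Module.Flat (C ⧸ J) ((A ⧸ J.map (algebraMap C A)) ⧸
      Ideal.span (Set.range (minors (φ.map (Ideal.Quotient.mk (J.map (algebraMap C A)))))))] :
    Injective (φ.map (Ideal.Quotient.mk 𝔪A)).mulVecLin ∧
      LinearMap.ker (Fintype.linearCombination (A ⧸ 𝔪A) (minors (φ.map (Ideal.Quotient.mk 𝔪A)))) ≤
        LinearMap.range (φ.map (Ideal.Quotient.mk 𝔪A)).mulVecLin := by
  haveI : Nontrivial (C ⧸ J) := Ideal.Quotient.nontrivial_iff.2 hJne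
  haveI : IsLocalRing (C ⧸ J) := IsLocalRing.of_surjective' _ Ideal.Quotient.mk_surjective
  haveI : Module.Flat (C ⧸ J) (A ⧸ J.map (algebraMap C A)) :=
    Module.Flat.of_linearEquiv (Algebra.TensorProduct.quotIdealMapEquivQuotTensor A J).toLinearEquiv
  set JA := J.map (algebraMap C A)
  set φJ := φ.map (Ideal.Quotient.mk JA)
  obtain ⟨h1, h2⟩ := fibre_exact (C := C ⧸ J) φJ (minors φJ) hinj hker
  have hmC : maximalIdeal (C ⧸ J) = (maximalIdeal C).map (Ideal.Quotient.mk J) :=
    (IsLocalRing.eq_maximalIdeal ((Ideal.map_eq_top_or_isMaximal_of_surjective _ Ideal.Quotient.mk_surjective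
      (maximalIdeal.isMaximal C)).resolve_left fun h => by
        have h' := congrArg (Ideal.comap (Ideal.Quotient.mk J)) h
        rw [Ideal.comap_map_of_surjective _ Ideal.Quotient.mk_surjective, ← RingHom.ker_eq_comap_bot,
          Ideal.mk_ker, Ideal.comap_top, sup_eq_left.2 (le_maximalIdeal hJne)] at h'
        exact (maximalIdeal.isMaximal C).ne_top h')).symm
  have hle : JA ≤ 𝔪A := Ideal.map_mono (le_maximalIdeal hJne)
  have hI : (maximalIdeal (C ⧸ J)).map (algebraMap (C ⧸ J) (A ⧸ JA)) = (𝔪A).map (Ideal.Quotient.mk JA) := by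
    rw [hmC, Ideal.map_map, Ideal.map_map]
    rfl
  let e := (Ideal.quotEquivOfEq hI).trans (DoubleQuot.quotQuotEquivQuotOfLE hle)
  have he : ∀ a, e (Ideal.Quotient.mk _ (Ideal.Quotient.mk JA a)) = Ideal.Quotient.mk 𝔪A a := fun a => rfl
  obtain ⟨h3, h4⟩ := exact_of_ringEquiv e _ _ h1 h2
  have hm : (φJ.map (Ideal.Quotient.mk _)).map e = φ.map (Ideal.Quotient.mk 𝔪A) := rfl
  rw [hm] at h3 h4
  refine ⟨h3, ?_⟩
  have hg : (e ∘ Ideal.Quotient.mk _ ∘ minors φJ) = minors (φ.map (Ideal.Quotient.mk 𝔪A)) := funext fun i => by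
    rw [Function.comp_apply, Function.comp_apply, ← map_minors, ← map_minors, he]
  rw [← hg]
  exact h4

omit [IsArtinianRing C] [Module.Flat C A] in
theorem height_comap_of_nilpotent (N M : Ideal A) (hNM : N ≤ M) (hM : IsNilpotent M) (p : Ideal (A ⧸ M)) [p.IsPrime] :
    p.height = ((p.comap (Ideal.Quotient.factor hNM))).height := by
  let f := Ideal.Quotient.factor hNM
  have hs : Surjective f := Ideal.Quotient.factor_surjective hNM
  have hker : RingHom.ker f ≤ nilradical (A ⧸ N) := fun x hx => by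
    obtain ⟨a, rfl⟩ := Ideal.Quotient.mk_surjective x
    obtain ⟨n, hn⟩ := hM
    refine ⟨n, ?_⟩
    have : a ∈ M := Ideal.Quotient.eq_zero_iff_mem.1 hx
    have := Ideal.pow_mem_pow this n
    rw [hn, Ideal.zero_eq_bot, Ideal.mem_bot] at this
    rw [← map_pow, this, map_zero]
    exact zero_mem _
  let e : PrimeSpectrum (A ⧸ M) ≃o PrimeSpectrum (A ⧸ N) :=
    OrderIso.ofSurjective (OrderEmbedding.ofMapLEIff (PrimeSpectrum.comap f) fun a b => by
      refine ⟨fun h x hx => ?_, fun h => Ideal.comap_mono h⟩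
      obtain ⟨y, rfl⟩ := hs x
      exact h hx)
      fun q => by
        haveI := q.isPrime
        have hq : RingHom.ker f ≤ q.asIdeal := hker.trans (nilradical_le_prime q.asIdeal)
        refine ⟨⟨q.asIdeal.map f, Ideal.map_isPrime_of_surjective hs hq⟩, PrimeSpectrum.ext ?_⟩
        show (q.asIdeal.map f).comap f = q.asIdeal
        rw [Ideal.comap_map_of_surjective _ hs, ← RingHom.ker_eq_comap_bot, sup_eq_left.2 hq]
  rw [show p.height = _ from PrimeSpectrum.height_eq_orderHeight ⟨p, inferInstance⟩, ← Order.height_orderIso e]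
  exact (PrimeSpectrum.height_eq_orderHeight (e ⟨p, inferInstance⟩)).symm

end GrothLib.HB26
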